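import Cfsg.Agent.Lib.Helper4.Orb.U35x.Mats

set_option autoImplicit false
set_option linter.unusedVariables false
set_option linter.style.haveILetI false
set_option Elab.async false

namespace Cfsg.Agent.Helper4.CO.U35x

open Cfsg Cfsg.Agent.Helper4.CO Cfsg.Agent.Helper4.TC Cfsg.Agent.Lib.Helper4

/-- a relator of the presentation -/
def rel2 : List ℕ := [0, 0, 0, 2, 0, 0, 0, 2, 0, 0, 0, 2, 0, 0, 0, 2, 0, 0, 0, 2, 0, 0, 0, 2, 0, 0, 0, 2]

set_option maxRecDepth 1000000 in
theorem c2_0 : runS D Dinv (rel2.map U35PB126.dec) (sgl 0 8) = sgl 0 8 := by decide +kernel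

set_option maxRecDepth 1000000 in
theorem c2_1 : runS D Dinv (rel2.map U35PB126.dec) (sgl 1 8) = sgl 1 8 := by decide +kernel

set_option maxRecDepth 1000000 in
theorem c2_2 : runS D Dinv (rel2.map U35PB126.dec) (sgl 2 8) = sgl 2 8 := by decide +kernel

set_option maxRecDepth 1000000 in
theorem c2_3 : runS D Dinv (rel2.map U35PB126.dec) (sgl 3 8) = sgl 3 8 := by decide +kernel

set_option maxRecDepth 1000000 in
theorem c2_4 : runS D Dinv (rel2.map U35PB126.dec) (sgl 4 8) = sgl 4 8 := by decide +kernel

set_option maxRecDepth 1000000 in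
theorem c2_5 : runS D Dinv (rel2.map U35PB126.dec) (sgl 5 8) = sgl 5 8 := by decide +kernel

set_option maxRecDepth 1000000 in
theorem c2_6 : runS D Dinv (rel2.map U35PB126.dec) (sgl 6 8) = sgl 6 8 := by decide +kernel

set_option maxRecDepth 1000000 in
theorem c2_7 : runS D Dinv (rel2.map U35PB126.dec) (sgl 7 8) = sgl 7 8 := by decide +kernel

set_option maxRecDepth 1000000 in
theorem c2_8 : runS D Dinv (rel2.map U35PB126.dec) (sgl 8 8) = sgl 8 8 := by decide +kernel

set_option maxRecDepth 1000000 in
theorem c2_9 : runS D Dinv (rel2.map U35PB126.dec) (sgl 9 8) = sgl 9 8 := by decide +kernel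

set_option maxRecDepth 1000000 in
theorem c2_10 : runS D Dinv (rel2.map U35PB126.dec) (sgl 10 8) = sgl 10 8 := by decide +kernel

set_option maxRecDepth 1000000 in
theorem c2_11 : runS D Dinv (rel2.map U35PB126.dec) (sgl 11 8) = sgl 11 8 := by decide +kernel

set_option maxRecDepth 1000000 in
theorem c2_12 : runS D Dinv (rel2.map U35PB126.dec) (sgl 12 8) = sgl 12 8 := by decide +kernel

set_option maxRecDepth 1000000 in
theorem c2_13 : runS D Dinv (rel2.map U35PB126.dec) (sgl 13 8) = sgl 13 8 := by decide +kernel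

set_option maxRecDepth 1000000 in
theorem c2_14 : runS D Dinv (rel2.map U35PB126.dec) (sgl 14 8) = sgl 14 8 := by decide +kernel

set_option maxRecDepth 1000000 in
theorem c2_15 : runS D Dinv (rel2.map U35PB126.dec) (sgl 15 8) = sgl 15 8 := by decide +kernel

set_option maxRecDepth 1000000 in
theorem c2_16 : runS D Dinv (rel2.map U35PB126.dec) (sgl 16 8) = sgl 16 8 := by decide +kernel

set_option maxRecDepth 1000000 in
theorem c2_17 : runS D Dinv (rel2.map U35PB126.dec) (sgl 17 8) = sgl 17 8 := by decide +kernel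

set_option maxRecDepth 1000000 in
theorem c2_18 : runS D Dinv (rel2.map U35PB126.dec) (sgl 18 8) = sgl 18 8 := by decide +kernel

set_option maxRecDepth 1000000 in
theorem c2_19 : runS D Dinv (rel2.map U35PB126.dec) (sgl 19 8) = sgl 19 8 := by decide +kernel

set_option maxRecDepth 1000000 in
theorem c2_20 : runS D Dinv (rel2.map U35PB126.dec) (sgl 20 8) = sgl 20 8 := by decide +kernel

set_option maxRecDepth 1000000 in
theorem c2_21 : runS D Dinv (rel2.map U35PB126.dec) (sgl 21 8) = sgl 21 8 := by decide +kernel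

set_option maxRecDepth 1000000 in
theorem c2_22 : runS D Dinv (rel2.map U35PB126.dec) (sgl 22 8) = sgl 22 8 := by decide +kernel

set_option maxRecDepth 1000000 in
theorem c2_23 : runS D Dinv (rel2.map U35PB126.dec) (sgl 23 8) = sgl 23 8 := by decide +kernel

theorem c2 : ∀ l ∈ basisL, runS D Dinv (rel2.map U35PB126.dec) l = l := by
  intro l hl
  obtain ⟨a, ha, rfl⟩ := List.mem_map.mp hl
  have ha' : a < 24 := List.mem_range.mp ha
  interval_cases a
  · exact c2_0
  · exact c2_1
  · exact c2_2
  · exact c2_3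
  · exact c2_4
  · exact c2_5
  · exact c2_6
  · exact c2_7
  · exact c2_8
  · exact c2_9
  · exact c2_10
  · exact c2_11
  · exact c2_12
  · exact c2_13
  · exact c2_14
  · exact c2_15
  · exact c2_16
  · exact c2_17
  · exact c2_18
  · exact c2_19
  · exact c2_20
  · exact c2_21
  · exact c2_22
  · exact c2_23

end Cfsg.Agent.Helper4.CO.U35x
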