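import Cfsg.Agent.Lib.Helper4.Orb.U35x.Mats

set_option autoImplicit false
set_option linter.unusedVariables false
set_option linter.style.haveILetI false
set_option Elab.async false

namespace Cfsg.Agent.Helper4.CO.U35x

open Cfsg Cfsg.Agent.Helper4.CO Cfsg.Agent.Helper4.TC Cfsg.Agent.Lib.Helper4

/-- a relator of the presentation -/
def rel3 : List ℕ := [0, 2, 0, 2, 0, 2, 0, 2, 0, 2, 0, 2, 0, 2, 0, 2]

set_option maxRecDepth 1000000 in
theorem c3_0 : runS D Dinv (rel3.map U35PB126.dec) (sgl 0 8) = sgl 0 8 := by decide +kernel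

set_option maxRecDepth 1000000 in
theorem c3_1 : runS D Dinv (rel3.map U35PB126.dec) (sgl 1 8) = sgl 1 8 := by decide +kernel

set_option maxRecDepth 1000000 in
theorem c3_2 : runS D Dinv (rel3.map U35PB126.dec) (sgl 2 8) = sgl 2 8 := by decide +kernel

set_option maxRecDepth 1000000 in
theorem c3_3 : runS D Dinv (rel3.map U35PB126.dec) (sgl 3 8) = sgl 3 8 := by decide +kernel

set_option maxRecDepth 1000000 in
theorem c3_4 : runS D Dinv (rel3.map U35PB126.dec) (sgl 4 8) = sgl 4 8 := by decide +kernel

set_option maxRecDepth 1000000 in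
theorem c3_5 : runS D Dinv (rel3.map U35PB126.dec) (sgl 5 8) = sgl 5 8 := by decide +kernel

set_option maxRecDepth 1000000 in
theorem c3_6 : runS D Dinv (rel3.map U35PB126.dec) (sgl 6 8) = sgl 6 8 := by decide +kernel

set_option maxRecDepth 1000000 in
theorem c3_7 : runS D Dinv (rel3.map U35PB126.dec) (sgl 7 8) = sgl 7 8 := by decide +kernel

set_option maxRecDepth 1000000 in
theorem c3_8 : runS D Dinv (rel3.map U35PB126.dec) (sgl 8 8) = sgl 8 8 := by decide +kernel

set_option maxRecDepth 1000000 in
theorem c3_9 : runS D Dinv (rel3.map U35PB126.dec) (sgl 9 8) = sgl 9 8 := by decide +kernel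

set_option maxRecDepth 1000000 in
theorem c3_10 : runS D Dinv (rel3.map U35PB126.dec) (sgl 10 8) = sgl 10 8 := by decide +kernel

set_option maxRecDepth 1000000 in
theorem c3_11 : runS D Dinv (rel3.map U35PB126.dec) (sgl 11 8) = sgl 11 8 := by decide +kernel

set_option maxRecDepth 1000000 in
theorem c3_12 : runS D Dinv (rel3.map U35PB126.dec) (sgl 12 8) = sgl 12 8 := by decide +kernel

set_option maxRecDepth 1000000 in
theorem c3_13 : runS D Dinv (rel3.map U35PB126.dec) (sgl 13 8) = sgl 13 8 := by decide +kernel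

set_option maxRecDepth 1000000 in
theorem c3_14 : runS D Dinv (rel3.map U35PB126.dec) (sgl 14 8) = sgl 14 8 := by decide +kernel

set_option maxRecDepth 1000000 in
theorem c3_15 : runS D Dinv (rel3.map U35PB126.dec) (sgl 15 8) = sgl 15 8 := by decide +kernel

set_option maxRecDepth 1000000 in
theorem c3_16 : runS D Dinv (rel3.map U35PB126.dec) (sgl 16 8) = sgl 16 8 := by decide +kernel

set_option maxRecDepth 1000000 in
theorem c3_17 : runS D Dinv (rel3.map U35PB126.dec) (sgl 17 8) = sgl 17 8 := by decide +kernel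

set_option maxRecDepth 1000000 in
theorem c3_18 : runS D Dinv (rel3.map U35PB126.dec) (sgl 18 8) = sgl 18 8 := by decide +kernel

set_option maxRecDepth 1000000 in
theorem c3_19 : runS D Dinv (rel3.map U35PB126.dec) (sgl 19 8) = sgl 19 8 := by decide +kernel

set_option maxRecDepth 1000000 in
theorem c3_20 : runS D Dinv (rel3.map U35PB126.dec) (sgl 20 8) = sgl 20 8 := by decide +kernel

set_option maxRecDepth 1000000 in
theorem c3_21 : runS D Dinv (rel3.map U35PB126.dec) (sgl 21 8) = sgl 21 8 := by decide +kernel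

set_option maxRecDepth 1000000 in
theorem c3_22 : runS D Dinv (rel3.map U35PB126.dec) (sgl 22 8) = sgl 22 8 := by decide +kernel

set_option maxRecDepth 1000000 in
theorem c3_23 : runS D Dinv (rel3.map U35PB126.dec) (sgl 23 8) = sgl 23 8 := by decide +kernel

theorem c3 : ∀ l ∈ basisL, runS D Dinv (rel3.map U35PB126.dec) l = l := by
  intro l hl
  obtain ⟨a, ha, rfl⟩ := List.mem_map.mp hl
  have ha' : a < 24 := List.mem_range.mp ha
  interval_cases a
  · exact c3_0
  · exact c3_1
  · exact c3_2
  · exact c3_3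
  · exact c3_4
  · exact c3_5
  · exact c3_6
  · exact c3_7
  · exact c3_8
  · exact c3_9
  · exact c3_10
  · exact c3_11
  · exact c3_12
  · exact c3_13
  · exact c3_14
  · exact c3_15
  · exact c3_16
  · exact c3_17
  · exact c3_18
  · exact c3_19
  · exact c3_20
  · exact c3_21
  · exact c3_22
  · exact c3_23

end Cfsg.Agent.Helper4.CO.U35x
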