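import Cfsg.Agent.Lib.Helper4.Orb.U35x.Chk0
import Cfsg.Agent.Lib.Helper4.Orb.U35x.Chk1
import Cfsg.Agent.Lib.Helper4.Orb.U35x.Chk2
import Cfsg.Agent.Lib.Helper4.Orb.U35x.Chk3
import Cfsg.Agent.Lib.Helper4.Orb.U35x.Chk4
import Cfsg.Agent.Lib.Helper4.Orb.U35x.Chk5

set_option autoImplicit false
set_option linter.unusedVariables false
set_option linter.style.haveILetI false
set_option Elab.async false

namespace Cfsg.Agent.Helper4.CO.U35x

open Cfsg Cfsg.Agent.Helper4.CO Cfsg.Agent.Helper4.TC Cfsg.Agent.Lib.Helper4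

theorem hchk : ∀ b ∈ U35PB126.bases, ∀ l ∈ basisL, runS D Dinv (b.map U35PB126.dec) l = l := by
  unfold U35PB126.bases
  refine List.forall_mem_cons.2 ⟨c0, ?_⟩
  refine List.forall_mem_cons.2 ⟨c1, ?_⟩
  refine List.forall_mem_cons.2 ⟨c2, ?_⟩
  refine List.forall_mem_cons.2 ⟨c3, ?_⟩
  refine List.forall_mem_cons.2 ⟨c4, ?_⟩
  refine List.forall_mem_cons.2 ⟨c5, ?_⟩
  exact fun _ h => absurd h List.not_mem_nil

end Cfsg.Agent.Helper4.CO.U35x
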