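import Cfsg.Agent.Lib.Helper4.Orb.U35x.Chk
import Cfsg.Agent.Lib.Helper4.Orb.HS.Main
import Cfsg.Agent.Lib.Helper4.Orb.GrpHS
import Cfsg.Agent.Lib.Helper4.TC.U35Iso

set_option autoImplicit false
set_option linter.unusedVariables false
set_option linter.unusedSectionVars false
set_option linter.style.haveILetI false

/-! The joint stabiliser of the two vectors `v, w` of the Higman--Sims configuration and one of
the 352 vectors attached to them is isomorphic to `PSU₃(5)`. -/

namespace Cfsg.Agent.Helper4.CO.U35x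

open Cfsg Cfsg.Agent.Helper4.CO Cfsg.Agent.Helper4.TC MulAction

/-- the base vectors -/
def U0 : leechLattice := mkL HS.anc0 HS.anc0_in

/-- the base vectors -/
def W0 : leechLattice := mkL HS.anc1 HS.anc1_in

/-- the base vectors -/
def X0 : leechLattice := mkL HS.startI HS.startI_in

theorem coS_fix (x : UG) (a : List ℤ) (ha : a ∈ anchors) (hin : InLP a) :
    coS D Dinv hok x • mkL a hin = mkL a hin := by
  apply Subtype.ext
  rw [coS_smul D Dinv hok x a hin.1 (mkL a hin) rfl, hfix x a ha]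
  rfl

theorem coS_a_ne_one : coS D Dinv hok .a ≠ 1 := by
  obtain ⟨l, hl, hne⟩ := hmove
  intro h1
  apply hne
  have hin := basisL_in l hl
  have hl24 := basisL_length l hl
  have h2 := coS_smul D Dinv hok .a l hl24 (mkL l hin) rfl
  rw [h1, one_smul] at h2
  have h3 : toV (stepsAct (D .a) l) = toV l := h2.symm
  have hlen : (stepsAct (D .a) l).length = 24 := (stepsAct_eq (D .a) (hok .a).1 l hl24).2
  apply List.ext_getElem (by rw [hlen, hl24])
  intro n h4 h5
  have hn : n < 24 := by rw [hlen] at h4; exact h4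
  have h6 := congrFun h3 (Cfsg.Agent.Lib.Helper4.pt ⟨n, hn⟩)
  rw [toV_pt, toV_pt, List.getD_eq_getElem _ _ h4, List.getD_eq_getElem _ _ h5] at h6
  exact h6

section

variable (v w : leechLattice) (hv : sqNorm (v : GolayPt → ℤ) = 48)
  (hw : sqNorm (w : GolayPt → ℤ) = 48)
  (hvw : dotInt (v : GolayPt → ℤ) (w : GolayPt → ℤ) = -32)

include hv hw hvw

/-- the order of the joint stabiliser -/
theorem card_stab (x : leechLattice) (hx : x ∈ dotSet 32 v w 0 (-16, 24, 0)) :
    Nat.card ↥(stabilizer Co0 v ⊓ stabilizer Co0 w ⊓ stabilizer Co0 x) = 126000 := by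
  set S : Subgroup Co0 := stabilizer Co0 v ⊓ stabilizer Co0 w with hS
  have horb : orbit ↥S x = dotSet 32 v w 0 (-16, 24, 0) :=
    orbit_eq_dotSet S (mem_stab2 v w)
      (fun y hy y' hy' => by
        obtain ⟨g, g1, g2, g3⟩ := HS.trans_of v w hv hw hvw _ (Or.inr (Or.inl rfl)) hy hy'
        exact ⟨g, g1, g2, co0_smul_zero g, g3⟩) hx
  have h1 := card_eq_orbit_mul S x
  rw [horb, HS.card_I v w hv hw hvw, (Grp.hs_simpCard v w hv hw hvw).2] at h1
  omega

/-- moving the configuration to the base vectors -/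
theorem exists_based (x : leechLattice) (hx : x ∈ dotSet 32 v w 0 (-16, 24, 0)) :
    ∃ h : Co0, Based h v w x HS.anc0 HS.anc1 HS.startI := by
  obtain ⟨h, hb⟩ := HS.exists_based v w hv hw hvw
  have hmem : mkL HS.startI HS.startI_in ∈ statSet 32 HS.anc0 HS.anc1 HS.anc2 (-16, 24, 0) :=
    mem_statSet_mkL 32 HS.anc0 HS.anc1 HS.anc2 (-16, 24, 0) HS.anc0_in.1 HS.anc1_in.1
      HS.anc2_in.1 HS.startI HS.startI_in (by decide) (by decide)
  exact hb.extend3 HS.transI HS.startI HS.startI_in hmem hx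

end

theorem U0_norm : sqNorm (U0 : GolayPt → ℤ) = 48 := by
  show sqNorm (toV HS.anc0) = 48
  rw [sqNorm_toV _ HS.anc0_in.1]; decide

theorem W0_norm : sqNorm (W0 : GolayPt → ℤ) = 48 := by
  show sqNorm (toV HS.anc1) = 48
  rw [sqNorm_toV _ HS.anc1_in.1]; decide

theorem UW_dot : dotInt (U0 : GolayPt → ℤ) (W0 : GolayPt → ℤ) = -32 := by
  show dotInt (toV HS.anc0) (toV HS.anc1) = -32
  rw [dotInt_toV _ _ HS.anc0_in.1 HS.anc1_in.1]; decide

theorem X0_mem : X0 ∈ dotSet 32 U0 W0 0 (-16, 24, 0) := by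
  rw [mem_dotSet_zero3]
  refine ⟨?_, ?_, ?_⟩
  · show sqNorm (toV HS.startI) = 32
    rw [sqNorm_toV _ HS.startI_in.1]; decide
  · show dotInt (toV HS.anc0) (toV HS.startI) = -16
    rw [dotInt_toV _ _ HS.anc0_in.1 HS.startI_in.1]; decide
  · show dotInt (toV HS.anc1) (toV HS.startI) = 24
    rw [dotInt_toV _ _ HS.anc1_in.1 HS.startI_in.1]; decide

/-- the isomorphism for the base triple -/
theorem iso_base : Nonempty (PresentedGroup U35PS.Rset ≃*
    ↥(stabilizer Co0 U0 ⊓ stabilizer Co0 W0 ⊓ stabilizer Co0 X0)) := by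
  haveI : IsSimpleGroup (PresentedGroup U35PS.Rset) := U35PS.main.1
  haveI : Finite (PresentedGroup U35PS.Rset) := U35PS.card_top.1
  obtain ⟨φ, hφ⟩ := exists_hom_co0S D Dinv hok hinv U35PS.Rset U35PB126.dec U35PB126.bases
    U35PB126.hR1 hchk
  set S : Subgroup Co0 := stabilizer Co0 U0 ⊓ stabilizer Co0 W0 ⊓ stabilizer Co0 X0 with hS
  have hmem : ∀ y, φ y ∈ S := by
    have hle : Subgroup.closure (Set.range (PresentedGroup.of (rels := U35PS.Rset))) ≤ S.comap φ := by
      rw [Subgroup.closure_le]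
      rintro _ ⟨x, rfl⟩
      show φ (PresentedGroup.of x) ∈ S
      rw [hφ, hS, Subgroup.mem_inf, Subgroup.mem_inf, mem_stabilizer_iff, mem_stabilizer_iff,
        mem_stabilizer_iff]
      exact ⟨⟨coS_fix x _ (by simp [anchors]) HS.anc0_in,
        coS_fix x _ (by simp [anchors]) HS.anc1_in⟩,
        coS_fix x _ (by simp [anchors]) HS.startI_in⟩
    rw [PresentedGroup.closure_range_of] at hle
    intro y
    exact hle (Subgroup.mem_top y)
  let φ' : PresentedGroup U35PS.Rset →* ↥S := φ.codRestrict S hmem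
  have hne : φ' (PresentedGroup.of .a) ≠ 1 := by
    intro h
    have h2 := congrArg Subtype.val h
    have h3 : φ (PresentedGroup.of .a) = 1 := h2
    rw [hφ] at h3
    exact coS_a_ne_one h3
  have hinj : Function.Injective φ' := by
    rw [← MonoidHom.ker_eq_bot_iff]
    rcases IsSimpleGroup.eq_bot_or_eq_top_of_normal φ'.ker inferInstance with h | h
    · exact h
    · exfalso
      apply hne
      have : PresentedGroup.of .a ∈ φ'.ker := by rw [h]; trivial
      exact this
  have hcard : Nat.card ↥S = 126000 := card_stab U0 W0 U0_norm W0_norm UW_dot X0 X0_mem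
  haveI : Finite ↥S := Nat.finite_of_card_ne_zero (by rw [hcard]; norm_num)
  have hbij : Function.Bijective φ' := by
    rw [Nat.bijective_iff_injective_and_card]
    exact ⟨hinj, U35PS.main.2.trans hcard.symm⟩
  exact ⟨MulEquiv.ofBijective φ' hbij⟩

theorem main (v w x : leechLattice) (hv : sqNorm (v : GolayPt → ℤ) = 48)
    (hw : sqNorm (w : GolayPt → ℤ) = 48)
    (hvw : dotInt (v : GolayPt → ℤ) (w : GolayPt → ℤ) = -32)
    (hx : x ∈ dotSet 32 v w 0 (-16, 24, 0))
    (F : Type) [Field F] [Fintype F] (hF : Fintype.card F = 25) :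
    Nonempty (↥(stabilizer ↥Co0 v ⊓ stabilizer ↥Co0 w ⊓ stabilizer ↥Co0 x) ≃* Cfsg.PSU 3 F 5) := by
  obtain ⟨h, hb⟩ := exists_based v w hv hw hvw x hx
  have e1 := conjStab3 h v w x
  have h1 : h • v = U0 := Subtype.ext hb.1
  have h2 : h • w = W0 := Subtype.ext hb.2.1
  have h3 : h • x = X0 := Subtype.ext hb.2.2
  rw [h1, h2, h3] at e1
  obtain ⟨e2⟩ := iso_base
  obtain ⟨e3⟩ := U35Iso.iso_su_field hF
  exact ⟨(e1.trans e2.symm).trans e3⟩

end Cfsg.Agent.Helper4.CO.U35x
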