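import Cfsg.Agent.Lib.Helper4.TC.MatCo0W
import Cfsg.Agent.Lib.Helper4.TC.U35PB126Glue
import Cfsg.Agent.Lib.Helper4.Orb.HS.CfgI

set_option autoImplicit false
set_option linter.unusedVariables false
set_option linter.style.haveILetI false
set_option Elab.async false

/-! Two automorphisms of the rank-24 lattice fixing three base vectors of the Higman--Sims
configuration and satisfying the relations of the presentation `Pres.U35` (generated data). -/

namespace Cfsg.Agent.Helper4.CO.U35x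

open Cfsg Cfsg.Agent.Helper4.CO Cfsg.Agent.Helper4.TC

/-- the generators of the presentation -/
abbrev UG : Type := Cfsg.Agent.Helper4.Pres.U35.Gen

/-- the three base vectors -/
def anchors : List (List ℤ) := [HS.anc0, HS.anc1, HS.startI]

/-- the sparse form of the sextet automorphism -/
def xiSp : List (List (ℕ × ℤ)) :=
  [[(0, -1), (1, 1), (2, 1), (3, 1)],
  [(0, 1), (1, -1), (2, 1), (3, 1)],
  [(0, 1), (1, 1), (2, -1), (3, 1)],
  [(0, 1), (1, 1), (2, 1), (3, -1)],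
  [(4, 1), (7, -1), (10, -1), (12, -1)],
  [(5, 1), (14, -1), (17, -1), (23, -1)],
  [(6, 1), (9, -1), (11, -1), (22, -1)],
  [(4, -1), (7, 1), (10, -1), (12, -1)],
  [(8, 1), (15, -1), (16, -1), (19, -1)],
  [(6, -1), (9, 1), (11, -1), (22, -1)],
  [(4, -1), (7, -1), (10, 1), (12, -1)],
  [(6, -1), (9, -1), (11, 1), (22, -1)],
  [(4, -1), (7, -1), (10, -1), (12, 1)],
  [(13, 1), (18, -1), (20, -1), (21, -1)],
  [(5, -1), (14, 1), (17, -1), (23, -1)],
  [(8, -1), (15, 1), (16, -1), (19, -1)],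
  [(8, -1), (15, -1), (16, 1), (19, -1)],
  [(5, -1), (14, -1), (17, 1), (23, -1)],
  [(13, -1), (18, 1), (20, -1), (21, -1)],
  [(8, -1), (15, -1), (16, -1), (19, 1)],
  [(13, -1), (18, -1), (20, 1), (21, -1)],
  [(13, -1), (18, -1), (20, -1), (21, 1)],
  [(6, -1), (9, -1), (11, -1), (22, 1)],
  [(5, -1), (14, -1), (17, -1), (23, 1)]]

/-- step -/
def stXi : Step := .sp xiMat xiSp

theorem stXi_ok : stXi.OK := ⟨by decide +kernel, xiMat_good⟩

/-- step -/
def stA : Step := .mono [0, 1, 8, 3, 4, 11, 20, 17, 2, 9, 18, 5, 22, 13, 14, 15, 19, 7, 10, 16, 6, 23, 12, 21] [1, 1, 1, 1, 1, 1, 1, 1, 1, 1, 1, 1, 1, 1, 1, 1, 1, 1, 1, 1, 1, 1, 1, 1]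

set_option maxRecDepth 1000000 in
theorem stA_ok : stA.OK := by decide +kernel

/-- step -/
def stL : Step := .mono [0, 4, 22, 8, 10, 19, 14, 23, 9, 15, 12, 21, 20, 18, 2, 13, 5, 11, 1, 6, 17, 3, 16, 7] [1, 1, 1, 1, 1, 1, 1, 1, 1, 1, 1, 1, 1, 1, 1, 1, 1, 1, 1, 1, 1, 1, 1, 1]

set_option maxRecDepth 1000000 in
theorem stL_ok : stL.OK := by decide +kernel

/-- step -/
def stN : Step := .mono [4, 2, 1, 3, 0, 22, 15, 7, 11, 23, 10, 6, 12, 9, 21, 8, 5, 14, 16, 13, 17, 20, 18, 19] [1, 1, 1, 1, 1, 1, 1, 1, 1, 1, 1, 1, 1, 1, 1, 1, 1, 1, 1, 1, 1, 1, 1, 1]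

set_option maxRecDepth 1000000 in
theorem stN_ok : stN.OK := by decide +kernel

/-- step -/
def stR : Step := .mono [0, 15, 23, 8, 1, 22, 20, 4, 10, 3, 5, 18, 7, 16, 2, 19, 11, 17, 12, 21, 9, 13, 14, 6] [1, 1, 1, 1, 1, 1, 1, 1, 1, 1, 1, 1, 1, 1, 1, 1, 1, 1, 1, 1, 1, 1, 1, 1]

set_option maxRecDepth 1000000 in
theorem stR_ok : stR.OK := by decide +kernel

/-- step -/
def stLi : Step := .mono [0, 18, 14, 21, 1, 16, 19, 23, 3, 8, 4, 17, 10, 15, 6, 9, 22, 20, 13, 5, 12, 11, 2, 7] [1, 1, 1, 1, 1, 1, 1, 1, 1, 1, 1, 1, 1, 1, 1, 1, 1, 1, 1, 1, 1, 1, 1, 1]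

set_option maxRecDepth 1000000 in
theorem stLi_ok : stLi.OK := by decide +kernel

/-- step -/
def stNi : Step := .mono [4, 2, 1, 3, 0, 16, 11, 7, 15, 13, 10, 8, 12, 19, 17, 6, 18, 20, 22, 23, 21, 14, 5, 9] [1, 1, 1, 1, 1, 1, 1, 1, 1, 1, 1, 1, 1, 1, 1, 1, 1, 1, 1, 1, 1, 1, 1, 1]

set_option maxRecDepth 1000000 in
theorem stNi_ok : stNi.OK := by decide +kernel

/-- step -/
def stRi : Step := .mono [0, 4, 14, 9, 7, 10, 23, 12, 3, 20, 8, 16, 18, 21, 22, 1, 13, 17, 11, 15, 6, 19, 5, 2] [1, 1, 1, 1, 1, 1, 1, 1, 1, 1, 1, 1, 1, 1, 1, 1, 1, 1, 1, 1, 1, 1, 1, 1]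

set_option maxRecDepth 1000000 in
theorem stRi_ok : stRi.OK := by decide +kernel

/-- the generators as products of steps -/
def D : UG → List Step
  | .a => [stA]
  | .b => [stL, stXi, stN, stXi, stR]

/-- the inverses of the generators as products of steps -/
def Dinv : UG → List Step
  | .a => [stA]
  | .b => [stRi, stXi, stNi, stXi, stLi]

theorem hok : ∀ x, (∀ st ∈ D x, st.OK) ∧ ∀ st ∈ Dinv x, st.OK := by
  intro x
  cases x
  · refine ⟨?_, ?_⟩ <;> intro st hst <;> simp only [D, Dinv, List.mem_cons, List.not_mem_nil, or_false] at hst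
    · rcases hst with rfl | rfl | rfl | rfl | rfl
      · exact stL_ok
      · exact stXi_ok
      · exact stN_ok
      · exact stXi_ok
      · exact stR_ok
    · rcases hst with rfl | rfl | rfl | rfl | rfl
      · exact stRi_ok
      · exact stXi_ok
      · exact stNi_ok
      · exact stXi_ok
      · exact stLi_ok
  · refine ⟨?_, ?_⟩ <;> intro st hst <;> simp only [D, Dinv, List.mem_cons, List.not_mem_nil, or_false] at hst
    · rw [hst]; exact stA_ok
    · rw [hst]; exact stA_ok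

/-- all the generators -/
def allGen : List UG := [.a, .b]

theorem mem_allGen (x : UG) : x ∈ allGen := by cases x <;> decide

set_option maxRecDepth 1000000 in
theorem hinv' : ∀ x ∈ allGen, ∀ l ∈ basisL, stepsAct (D x) (stepsAct (Dinv x) l) = l := by
  decide +kernel

theorem hinv : ∀ x, ∀ l ∈ basisL, stepsAct (D x) (stepsAct (Dinv x) l) = l :=
  fun x => hinv' x (mem_allGen x)

set_option maxRecDepth 1000000 in
theorem hfix' : ∀ x ∈ allGen, ∀ a ∈ anchors, stepsAct (D x) a = a := by decide +kernel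

theorem hfix (x : UG) : ∀ a ∈ anchors, stepsAct (D x) a = a := hfix' x (mem_allGen x)

set_option maxRecDepth 1000000 in
theorem hmove : ∃ l ∈ basisL, stepsAct (D .a) l ≠ l := by decide +kernel

end Cfsg.Agent.Helper4.CO.U35x
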